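import Groth.Agent.Ega4fib.H130.RedBase
import Groth.Agent.Ega4fib.H118.EquidimCrit
import Groth.Agent.Ega43.MaxPoints
import Groth.Agent.CycB.RelDim3

/-!
# Equidimensionality at a point from the fibre
-/

set_option autoImplicit false
universe u

namespace Groth.Agent.Ega4fib.H130.EquidimOfFibre

open AlgebraicGeometry CategoryTheory Cardinal Limits
open Groth.Agent.CycB Groth.Agent.CycB.RelDim

variable {X Y : Scheme.{u}}

/-- If all irreducible components of the fibre through `x` which contain `x` have dimension `e`, then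
`trdeg κ(z)/κ(f z) = e` for the maximal points `z ⤳ x` of the fibre. -/
theorem rtd_eq_of_dim_components (f : X ⟶ Y) [LocallyOfFiniteType f] (x : X) (e : ℕ)
    (heq : ∀ Z ∈ irreducibleComponents (↥(f.fiber (f.base x)) : Type u), f.asFiber x ∈ Z →
      topologicalKrullDim (↥Z : Type u) = e) :
    ∀ z : X, z ⤳ x → f z = f x → (∀ z' : X, z' ⤳ z → f z' = f z → z' = z) → rtd f z = e := by
  refine (RedBase.forall_fiber_iff (f := f) (x := x) (P := fun z ↦ rtd f z = e)).mp ?_
  intro z hz hmax
  obtain ⟨n, hn, hn'⟩ := exists_dim_closure_fiber f (f x) z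
  have h1 : closure {z} ∈ irreducibleComponents (f.fiber (f x)) :=
    Ega43.MaxPoints.IsMaxPt.closure_mem_irreducibleComponents fun w hw ↦
      hmax w (specializes_iff_mem_closure.mp hw)
  have h2 := heq _ h1 hz
  rw [hn'] at h2
  rw [hn]
  exact_mod_cast h2

theorem isEquidimAt [IsLocallyNoetherian Y] (f : X ⟶ Y) [LocallyOfFiniteType f] (x : X)
    (hopen : ∀ z : ↥(f.fiber (f.base x)), f.asFiber x ∈ closure {z} →
      (∀ z' : ↥(f.fiber (f.base x)), z ∈ closure {z'} → z' = z) →
      EGA43.IsUnivOpenAt f ((f.fiberι (f.base x)).base z))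
    (hred : FBase.IsGeomReducedAt (k := Y.residueField (f.base x))
      (f.fiberToSpecResidueField (f.base x)) (f.asFiber x))
    (e : ℕ) (heq : ∀ Z ∈ irreducibleComponents (↥(f.fiber (f.base x)) : Type u), f.asFiber x ∈ Z →
      topologicalKrullDim (↥Z : Type u) = e) :
    EGA43.IsEquidimAt f x := by
  have : IsLocallyNoetherian X := LocallyOfFiniteType.isLocallyNoetherian f
  have hz := rtd_eq_of_dim_components f x e heq
  refine Ega4fib.H118.EquidimCrit.isEquidimAt_of_generic f x e ?_ ?_
  · intro ζ hζx hζ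
    obtain ⟨h1, z, -, h3, h4, h5, h6⟩ := RedBase.key f x hopen hred hζx hζ
    exact ⟨h1, (hz z h3 h4 h5).ge.trans h6⟩
  · intro w hw hfw
    obtain ⟨z, h1, h2, h3⟩ := exists_fibGeneric_specializes f w
    refine (VarietyA.LocDim.rtd_le_of_specializes f h1 h2).trans ?_
    exact (hz z (h1.trans hw) (h2.trans hfw) fun z' h h' ↦ h3 z' h' h).le

end Groth.Agent.Ega4fib.H130.EquidimOfFibre
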