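import Groth.Agent.Ega4fib.H130.FlatPoint
import Groth.Agent.Ega43.UnivOpenFlatGeom

/-!
# Maximal generizations at points of flatness with reduced fibre
-/

set_option autoImplicit false
universe u

namespace Groth.Agent.Ega4fib.H130.FlatFib

open AlgebraicGeometry CategoryTheory Cardinal
open Groth.Agent.CycB Groth.Agent.CycB.RelDim Groth.Agent.CycB.LocQuot

variable {X Y : Scheme.{u}}

/-- If `f` is flat at `t` and its fibre is reduced at `t`, then every maximal point `ζ ⤳ t` of `X` specializes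
to a maximal point of the fibre through `t` which specializes to `t`. -/
theorem exists_fibre_point [IsLocallyNoetherian Y] (f : X ⟶ Y) [LocallyOfFiniteType f] {t ζ : X}
    (h : ζ ⤳ t) (hζ : ∀ z : X, z ⤳ ζ → z = ζ) (hflat : (f.stalkMap t).hom.Flat)
    (hrad : ((IsLocalRing.maximalIdeal (Y.presheaf.stalk (f t))).map (f.stalkMap t).hom).IsRadical) :
    ∃ z : X, ζ ⤳ z ∧ z ⤳ t ∧ f z = f t ∧ ∀ z' : X, z' ⤳ z → f z' = f z → z' = z := by
  have : IsLocallyNoetherian X := LocallyOfFiniteType.isLocallyNoetherian f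
  algebraize [(f.stalkMap t).hom]
  have : IsLocalHom (algebraMap (Y.presheaf.stalk (f t)) (X.presheaf.stalk t)) :=
    inferInstanceAs (IsLocalHom (f.stalkMap t).hom)
  obtain ⟨Q, hQ, hle⟩ := FlatMin.exists_minimalPrimes_le (A := Y.presheaf.stalk (f t))
    (B := X.presheaf.stalk t) hrad _ (FlatPoint.primeOf_mem_minimalPrimes h hζ)
  let q : PrimeSpectrum (X.presheaf.stalk t) := ⟨Q, hQ.1.1⟩
  have hq : f (ptOf q) = f t := (Ega43.UnivOpenFlatGeom.apply_fromSpecStalk_eq f t q).mpr hQ.1.2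
  refine ⟨ptOf q, ?_, ptOf_specializes q, hq, ?_⟩
  · rw [← ptOf_primeOf h, ptOf_specializes_iff]
    exact hle
  · intro z' hz' hfz'
    have hz't : z' ⤳ t := hz'.trans (ptOf_specializes q)
    have h1 : primeOf hz't ≤ q := by
      rw [← primeOf_ptOf q, primeOf_le_iff]
      exact hz'
    have h2 := (Ega43.UnivOpenFlatGeom.apply_fromSpecStalk_eq f t (primeOf hz't)).mp (by
      have h3 : X.fromSpecStalk t (primeOf hz't) = z' := fromSpecStalk_primeOf hz't
      rw [h3, hfz', hq])
    have h3 : q ≤ primeOf hz't := hQ.2 ⟨(primeOf hz't).2, h2⟩ h1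
    rw [← ptOf_primeOf hz't, le_antisymm h1 h3]

end Groth.Agent.Ega4fib.H130.FlatFib
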