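import Groth.Agent.S0392
import Groth.Agent.S0395
import Groth.Agent.Flat2F.FlatTrdeg
import Mathlib.RingTheory.Ideal.MinimalPrime.Noetherian
import Mathlib.RingTheory.Ideal.MinimalPrime.Localization
import Mathlib.RingTheory.Ideal.GoingDown
import Mathlib.RingTheory.Localization.AtPrime.Basic

/-!
# Minimal primes of a flat local algebra

`A → B` a flat local homomorphism of Noetherian local rings, `P` a minimal prime of `B`.

* `exists_minimalPrimes_le`: if `𝔪_A B` is radical, then `P` is contained in a minimal prime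
  of `𝔪_A B`.
* `coeff_mem_of_aeval_mem`: if the residue classes of `y₁, …, y_n ∈ B` are algebraically independent over
  the residue field of `A`, then the classes of `y₁, …, y_n` in `B/P` are algebraically independent over
  `A/(P ∩ A)`.
-/

set_option autoImplicit false
universe u

namespace Groth.Agent.Ega4fib.H130.FlatMin

open IsLocalRing TensorProduct

section

variable {A B : Type u} [CommRing A] [CommRing B] [IsLocalRing A] [IsLocalRing B]
  [IsNoetherianRing A] [IsNoetherianRing B] [Algebra A B] [IsLocalHom (algebraMap A B)]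
  [Module.Flat A B]

theorem exists_minimalPrimes_le
    (hrad : ((maximalIdeal A).map (algebraMap A B)).IsRadical)
    (P : Ideal B) (hP : P ∈ minimalPrimes B) :
    ∃ Q ∈ ((maximalIdeal A).map (algebraMap A B)).minimalPrimes, P ≤ Q := by
  set J := (maximalIdeal A).map (algebraMap A B) with hJ
  by_contra hcon
  push Not at hcon
  have hfin := J.finite_minimalPrimes_of_isNoetherianRing
  have h1 : ¬ ((P : Set B) ⊆ ⋃ i ∈ J.minimalPrimes, (i : Ideal B)) := by
    rw [Ideal.subset_union_prime_finite (s := J.minimalPrimes) (f := fun i ↦ i) hfin ⊥ ⊥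
      fun i hi _ _ ↦ hi.1.1]
    rintro ⟨i, hi, h⟩
    exact hcon i hi h
  obtain ⟨c, hcP, hc⟩ := Set.not_subset.mp h1
  simp only [Set.mem_iUnion, not_exists] at hc
  have h2 : Ideal.Quotient.mk J c ∈ nonZeroDivisors (B ⧸ J) := by
    rw [mem_nonZeroDivisors_iff_right]
    intro x hx
    obtain ⟨x, rfl⟩ := Ideal.Quotient.mk_surjective x
    rw [← map_mul, Ideal.Quotient.eq_zero_iff_mem] at hx
    rw [Ideal.Quotient.eq_zero_iff_mem, ← hrad.radical, ← Ideal.sInf_minimalPrimes,
      Ideal.mem_sInf]
    intro i hi
    have := hi.1.1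
    exact (this.mem_or_mem (hi.1.2 hx)).resolve_right (hc i hi)
  exact notMem_nonZeroDivisors_of_mem_mem_minimalPrimes hcP hP
    (Groth.Agent.S0395.result (R := A) c h2).2

/-- The prime ideal `𝔭[T₁, …, T_n]`. -/
noncomputable def pC {A : Type u} [CommRing A] (n : Type u) (p : Ideal A) : Ideal (MvPolynomial n A) :=
  RingHom.ker (MvPolynomial.map (Ideal.Quotient.mk p) : MvPolynomial n A →+* MvPolynomial n (A ⧸ p))

theorem mem_pC {A : Type u} [CommRing A] {n : Type u} {p : Ideal A} {G : MvPolynomial n A} :
    G ∈ pC n p ↔ ∀ I, G.coeff I ∈ p := by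
  rw [pC, RingHom.mem_ker, MvPolynomial.ext_iff]
  refine forall_congr' fun I ↦ ?_
  rw [MvPolynomial.coeff_map, MvPolynomial.coeff_zero, Ideal.Quotient.eq_zero_iff_mem]

theorem pC_eq_map {A : Type u} [CommRing A] {n : Type u} {p : Ideal A} :
    pC n p = p.map (algebraMap A (MvPolynomial n A)) := by
  rw [pC, MvPolynomial.ker_map, Ideal.mk_ker]
  rfl

instance isPrime_pC {A : Type u} [CommRing A] (n : Type u) (p : Ideal A) [p.IsPrime] :
    (pC n p).IsPrime := RingHom.ker_isPrime _

omit [IsNoetherianRing A] [IsNoetherianRing B] [Module.Flat A B] in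
theorem isUnit_aeval_of_notMem {n : Type u} (y : n → B)
    (hy : AlgebraicIndependent (ResidueField A) (fun i ↦ residue B (y i)))
    (G : MvPolynomial n A) (hG : G ∉ pC n (maximalIdeal A)) : IsUnit (MvPolynomial.aeval y G) := by
  refine Flat2F.FlatTrdeg.isUnit_aeval y hy G fun h0 ↦ hG ?_
  rw [mem_pC]
  intro I
  have := congrArg (MvPolynomial.coeff I) h0
  rwa [MvPolynomial.coeff_map, MvPolynomial.coeff_zero, residue_eq_zero_iff] at this

theorem coeff_mem_of_aeval_mem {n : Type u} [Finite n] (y : n → B)
    (hy : AlgebraicIndependent (ResidueField A) (fun i ↦ residue B (y i)))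
    (P : Ideal B) (hP : P ∈ minimalPrimes B) (G : MvPolynomial n A)
    (hG : MvPolynomial.aeval y G ∈ P) (I : n →₀ ℕ) : algebraMap A B (G.coeff I) ∈ P := by
  have hPp : P.IsPrime := hP.1.1
  let C := MvPolynomial n A
  let M : Ideal C := pC n (maximalIdeal A)
  let S := Localization.AtPrime M
  have hNC : IsNoetherianRing C := inferInstance
  have hNS : IsNoetherianRing S := IsLocalization.isNoetherianRing M.primeCompl S hNC
  let φ : S →ₐ[A] B := IsLocalization.liftAlgHom (M := M.primeCompl) (f := MvPolynomial.aeval y)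
    fun g ↦ isUnit_aeval_of_notMem y hy g g.2
  have hφ : ∀ g : C, φ (algebraMap C S g) = MvPolynomial.aeval y g := fun g ↦ by
    simp [φ]
  let _ : Algebra S B := φ.toRingHom.toAlgebra
  have halg : ∀ s : S, algebraMap S B s = φ s := fun _ ↦ rfl
  have hst : IsScalarTower A S B := .of_algebraMap_eq fun a ↦ (φ.commutes a).symm
  have hmaxC : (maximalIdeal A).map (algebraMap A S) = maximalIdeal S := by
    rw [IsScalarTower.algebraMap_eq A C S, ← Ideal.map_map, ← pC_eq_map]
    exact Localization.AtPrime.map_eq_maximalIdeal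
  have hlocAS : IsLocalHom (algebraMap A S) := by
    refine ((IsLocalRing.local_hom_TFAE (algebraMap A S)).out 0 2 rfl rfl).mpr hmaxC.le
  have hlocSB : IsLocalHom (algebraMap S B) := by
    refine ((IsLocalRing.local_hom_TFAE (algebraMap S B)).out 0 2 rfl rfl).mpr ?_
    rw [← hmaxC, Ideal.map_map, ← IsScalarTower.algebraMap_eq A S B]
    exact ((IsLocalRing.local_hom_TFAE (algebraMap A B)).out 0 2 rfl rfl).mp inferInstance
  have hflat : Module.Flat S B := by
    refine (Groth.Agent.S0392.result (R := A) (S := S) (S' := B) (M := B) ?_).2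
    have hmaxl : ((maximalIdeal A).map (algebraMap A S)).IsMaximal := by
      rw [hmaxC]; infer_instance
    let _ : Field (S ⧸ (maximalIdeal A).map (algebraMap A S)) := Ideal.Quotient.field _
    exact inferInstance
  -- the contraction of `P` is a minimal prime
  have hgd : Algebra.HasGoingDown S B := inferInstance
  let p := P.under A
  let q := P.under S
  have hpM : Disjoint (M.primeCompl : Set C) (pC n p) := by
    rw [Set.disjoint_left]
    intro g hg hg'
    refine hg ?_
    change g ∈ pC n _
    have hg'' : g ∈ pC n p := hg'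
    rw [mem_pC] at hg'' ⊢
    exact fun I ↦ (IsLocalRing.le_maximalIdeal (Ideal.IsPrime.ne_top (I := P.under A) inferInstance)) (hg'' I)
  let q' : Ideal S := (pC n p).map (algebraMap C S)
  have hq' : q'.IsPrime := IsLocalization.isPrime_of_isPrime_disjoint M.primeCompl S _ inferInstance hpM
  have hle : q' ≤ q := by
    rw [Ideal.map_le_iff_le_comap, pC_eq_map, Ideal.map_le_iff_le_comap]
    intro a ha
    change algebraMap S B (algebraMap C S (algebraMap A C a)) ∈ P
    rw [← IsScalarTower.algebraMap_apply A C S, ← IsScalarTower.algebraMap_apply A S B]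
    exact ha
  have hPq : P.LiesOver q := ⟨rfl⟩
  obtain ⟨P', hP'P, hP'p, hP'⟩ := Ideal.exists_ideal_le_liesOver_of_le (p := q') (q := q) P hle
  have hPP' : P = P' := le_antisymm (hP.2 ⟨hP'p, bot_le⟩ hP'P) hP'P
  have hqq' : q = q' := by
    rw [hP'.over, ← hPP']
  have h1 : algebraMap C S G ∈ q' := by
    rw [← hqq']
    change φ (algebraMap C S G) ∈ P
    rw [hφ]
    exact hG
  have h2 : G ∈ (q').under C := h1
  rw [IsLocalization.under_map_of_isPrime_disjoint M.primeCompl S (I := pC n p) inferInstance hpM,
    mem_pC] at h2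
  exact h2 I

end

end Groth.Agent.Ega4fib.H130.FlatMin
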