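import Groth.Agent.Ega4fib.H130.FlatMin
import Groth.Agent.Flat2F.SuppTrdeg
import Mathlib.AlgebraicGeometry.Morphisms.Flat

/-!
# Maximal generizations at points of flatness

Let `f : X ⟶ Y` be locally of finite type, `Y` locally Noetherian, `f` flat at a point `t`, and let `ζ` be
a maximal point of `X` specializing to `t`.

* `apply_maximal_of_flat`: `f ζ` is a maximal point of `Y`;
* `rtd_le_rtd_of_flat`: `trdeg κ(t)/κ(f t) ≤ trdeg κ(ζ)/κ(f ζ)`;
* `exists_fibGeneric_of_flat`: if the fibre through `t` is reduced at `t`, then `ζ` specializes to the generic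
  point of an irreducible component of that fibre passing through `t`.
-/

set_option autoImplicit false
universe u

namespace Groth.Agent.Ega4fib.H130.FlatPoint

open AlgebraicGeometry CategoryTheory Cardinal
open Groth.Agent.CycB Groth.Agent.CycB.TrdegAlg Groth.Agent.CycB.RelDim Groth.Agent.CycB.LocQuot

variable {X Y : Scheme.{u}}

/-- The prime of `O_{X,t}` attached to a maximal point is a minimal prime. -/
theorem primeOf_mem_minimalPrimes {t ζ : X} (h : ζ ⤳ t) (hζ : ∀ z : X, z ⤳ ζ → z = ζ) :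
    (primeOf h).asIdeal ∈ minimalPrimes (X.presheaf.stalk t) := by
  refine ⟨⟨(primeOf h).2, bot_le⟩, ?_⟩
  rintro P ⟨hP, -⟩ hle
  let P' : PrimeSpectrum (X.presheaf.stalk t) := ⟨P, hP⟩
  have h1 : ptOf P' ⤳ ζ := by
    have := (ptOf_specializes_iff P' (primeOf h)).mpr hle
    rwa [ptOf_primeOf] at this
  have h2 : P' = primeOf h := by
    apply ptOf_injective t
    rw [hζ _ h1, ptOf_primeOf]
  rw [← h2]

theorem maximal_of_mem_minimalPrimes {t : X} (P : PrimeSpectrum (X.presheaf.stalk t))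
    (hP : P.asIdeal ∈ minimalPrimes (X.presheaf.stalk t)) (z : X) (hz : z ⤳ ptOf P) :
    z = ptOf P := by
  have hzt : z ⤳ t := hz.trans (ptOf_specializes P)
  have h1 : primeOf hzt ≤ P := by
    rw [← primeOf_ptOf P, primeOf_le_iff]
    exact hz
  have h2 : P ≤ primeOf hzt := hP.2 ⟨(primeOf hzt).2, bot_le⟩ h1
  rw [← ptOf_primeOf hzt, le_antisymm h1 h2]

theorem comap_stalkMap_primeOf (f : X ⟶ Y) {t ζ : X} (h : ζ ⤳ t) :
    PrimeSpectrum.comap (f.stalkMap t).hom (primeOf h) = primeOf (h.map f.continuous) := by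
  apply fromSpecStalk_injective (f t)
  rw [fromSpecStalk_primeOf]
  have h1 := Scheme.SpecMap_stalkMap_fromSpecStalk f (x := t)
  have h2 : ∀ Q : Spec (X.presheaf.stalk t), Y.fromSpecStalk (f t) (Spec.map (f.stalkMap t) Q) =
      f (X.fromSpecStalk t Q) := by
    intro Q
    rw [← Scheme.Hom.comp_apply, h1, Scheme.Hom.comp_apply]
  exact (h2 (primeOf h)).trans (congrArg f (fromSpecStalk_primeOf h))

/-- The image of a maximal point under a morphism which is flat at a specialization of it. -/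
theorem apply_maximal_of_flat (f : X ⟶ Y) {t ζ : X} (h : ζ ⤳ t) (hζ : ∀ z : X, z ⤳ ζ → z = ζ)
    (hflat : (f.stalkMap t).hom.Flat) (y : Y) (hy : y ⤳ f ζ) : y = f ζ := by
  have hft : f ζ ⤳ f t := h.map f.continuous
  algebraize [(f.stalkMap t).hom]
  have hP := primeOf_mem_minimalPrimes h hζ
  let P : Ideal (X.presheaf.stalk t) := (primeOf h).asIdeal
  have hPp : P.IsPrime := (primeOf h).2
  have hle : (primeOf (hy.trans hft)).asIdeal ≤ (primeOf hft).asIdeal := by
    change primeOf (hy.trans hft) ≤ primeOf hft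
    rw [primeOf_le_iff]
    exact hy
  have hlies : P.LiesOver (primeOf hft).asIdeal :=
    ⟨(congrArg PrimeSpectrum.asIdeal (comap_stalkMap_primeOf f h)).symm⟩
  obtain ⟨P', hP'P, hP'p, hP'⟩ := Ideal.exists_ideal_le_liesOver_of_le
    (p := (primeOf (hy.trans hft)).asIdeal) (q := (primeOf hft).asIdeal) P hle
  have hPP' : P = P' := le_antisymm (hP.2 ⟨hP'p, bot_le⟩ hP'P) hP'P
  have h1 : (primeOf (hy.trans hft)).asIdeal = (primeOf hft).asIdeal := by
    rw [hP'.over, ← hPP', hlies.over]
  exact (primeOf_inj _ _).mp (PrimeSpectrum.ext h1)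

theorem rtd_le_rtd_of_flat [IsLocallyNoetherian Y] (f : X ⟶ Y) [LocallyOfFiniteType f] {t ζ : X}
    (h : ζ ⤳ t) (hζ : ∀ z : X, z ⤳ ζ → z = ζ) (hflat : (f.stalkMap t).hom.Flat) :
    rtd f t ≤ rtd f ζ := by
  obtain ⟨n, hn⟩ := Cardinal.lt_aleph0.mp (rtd_lt_aleph0 f t)
  have : IsLocallyNoetherian X := LocallyOfFiniteType.isLocallyNoetherian f
  algebraize [(f.stalkMap t).hom]
  have : IsLocalHom (algebraMap (Y.presheaf.stalk (f t)) (X.presheaf.stalk t)) :=
    inferInstanceAs (IsLocalHom (f.stalkMap t).hom)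
  obtain ⟨y, hy⟩ : ∃ y : ULift.{u} (Fin n) → X.presheaf.stalk t,
      AlgebraicIndependent (IsLocalRing.ResidueField (Y.presheaf.stalk (f t)))
        (fun i ↦ IsLocalRing.residue (X.presheaf.stalk t) (y i)) := by
    let _ : Algebra (Y.residueField (f t)) (X.residueField t) := (f.residueFieldMap t).hom.toAlgebra
    have hn' : (n : Cardinal.{u}) ≤ Algebra.trdeg (Y.residueField (f t)) (X.residueField t) := hn.ge
    obtain ⟨B, hB⟩ := exists_isTranscendenceBasis (Y.residueField (f t)) (X.residueField t)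
    have h1 : (n : Cardinal.{u}) = #(ULift.{u} (Fin n)) := by simp
    rw [← hB.cardinalMk_eq_trdeg, h1, Cardinal.le_def] at hn'
    obtain ⟨e⟩ := hn'
    choose y hy using fun i ↦ IsLocalRing.residue_surjective (R := X.presheaf.stalk t)
      ((e i : B) : X.residueField t)
    refine ⟨y, ?_⟩
    have h2 : AlgebraicIndependent (Y.residueField (f t))
        (fun i ↦ ((e i : B) : X.residueField t)) := hB.1.comp e e.injective
    have h3 : (fun i ↦ IsLocalRing.residue (X.presheaf.stalk t) (y i)) =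
        (fun i ↦ ((e i : B) : X.residueField t)) := funext hy
    rw [h3]
    exact h2
  have hft : f ζ ⤳ f t := h.map f.continuous
  have hcomm : (f.residueFieldMap ζ).hom.comp (Cyc.specMap (f t) (f ζ) hft) =
      (Cyc.specMap t ζ h).comp (f.stalkMap t).hom :=
    RingHom.ext fun a ↦ DivNat.residueFieldMap_specMap f t ζ h a
  have hle : RingHom.ker (Cyc.specMap (f t) (f ζ) hft) ≤
      (RingHom.ker (Cyc.specMap t ζ h)).comap (f.stalkMap t).hom := by
    intro a ha
    rw [Ideal.mem_comap, RingHom.mem_ker, ← RingHom.comp_apply, ← hcomm, RingHom.comp_apply,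
      RingHom.mem_ker.mp ha, map_zero]
  have hp : RingHom.ker (Cyc.specMap (f t) (f ζ) hft) =
      (RingHom.ker (Cyc.specMap t ζ h)).comap (f.stalkMap t).hom := by
    rw [← primeOf_asIdeal, ← primeOf_asIdeal, ← comap_stalkMap_primeOf]
    rfl
  rw [hn, rtd, trd_eq_trd_quotientMap (f.stalkMap t).hom _ _ _ hcomm
    (Flat2F.SuppTrdeg.fracGen_specMap _ _ hft) (Flat2F.SuppTrdeg.fracGen_specMap _ _ h) _ rfl _ rfl hle]
  have h1 : (n : Cardinal.{u}) = #(ULift.{u} (Fin n)) := by simp
  rw [h1]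
  let _ := (Ideal.quotientMap (RingHom.ker (Cyc.specMap t ζ h)) (f.stalkMap t).hom hle).toAlgebra
  have hind : AlgebraicIndependent (Y.presheaf.stalk (f t) ⧸
      RingHom.ker (Cyc.specMap (f t) (f ζ) hft))
      (fun i ↦ Ideal.Quotient.mk (RingHom.ker (Cyc.specMap t ζ h)) (y i)) := by
    rw [algebraicIndependent_iff]
    intro G' hG'
    obtain ⟨G, rfl⟩ := MvPolynomial.map_surjective (Ideal.Quotient.mk
      (RingHom.ker (Cyc.specMap (f t) (f ζ) hft))) Ideal.Quotient.mk_surjective G'
    have h2 : MvPolynomial.aeval (fun i ↦ Ideal.Quotient.mk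
        (RingHom.ker (Cyc.specMap t ζ h)) (y i)) (MvPolynomial.map (Ideal.Quotient.mk
        (RingHom.ker (Cyc.specMap (f t) (f ζ) hft))) G) =
        Ideal.Quotient.mk (RingHom.ker (Cyc.specMap t ζ h)) (MvPolynomial.aeval y G) := by
      rw [MvPolynomial.aeval_def, MvPolynomial.eval₂_map, MvPolynomial.aeval_def,
        ← MvPolynomial.coe_eval₂Hom, ← MvPolynomial.coe_eval₂Hom, ← RingHom.comp_apply]
      congr 1
      ext a
      · simp only [MvPolynomial.coe_eval₂Hom, RingHom.coe_comp, Function.comp_apply,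
          MvPolynomial.eval₂_C]
        rfl
      · simp
    rw [h2, Ideal.Quotient.eq_zero_iff_mem, ← primeOf_asIdeal] at hG'
    ext I
    rw [MvPolynomial.coeff_map, MvPolynomial.coeff_zero, Ideal.Quotient.eq_zero_iff_mem, hp,
      Ideal.mem_comap, ← primeOf_asIdeal]
    exact FlatMin.coeff_mem_of_aeval_mem y hy _ (primeOf_mem_minimalPrimes h hζ) G hG' I
  exact hind.cardinalMk_le_trdeg

end Groth.Agent.Ega4fib.H130.FlatPoint
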