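import Groth.Agent.Ega4fib.H130.FlatFib
import Groth.Agent.Ega43.GeomBC
import Groth.Agent.Ega43.UnivOpenAt
import Groth.Agent.Sga3C.FlatAt
import Groth.Agent.Flat2C.GenericReduced

/-!
# Universal openness and geometric reducedness at a point: consequences over an arbitrary locally
Noetherian base

* `forall_fiber_iff`: translation between conditions on the generic points of the components of the fibre
  through `x` and conditions on the points of `X`.
* `key`: if `f` is universally open at the generic points of the components of the fibre through `x` and this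
  fibre is geometrically reduced at `x`, then each maximal point `ζ ⤳ x` of `X` has maximal image, and
  specializes to the generic point `z` of a component of the fibre through `x`, with
  `trdeg κ(z)/κ(f z) ≤ trdeg κ(ζ)/κ(f ζ)`.
-/

set_option autoImplicit false
universe u

namespace Groth.Agent.Ega4fib.H130.RedBase

open AlgebraicGeometry CategoryTheory Cardinal Limits
open Groth.Agent.CycB Groth.Agent.CycB.RelDim Groth.Agent.CycB.LocQuot

variable {X Y : Scheme.{u}}

theorem apply_fiberι (f : X ⟶ Y) (y : Y) (z : f.fiber y) : f (f.fiberι y z) = y := by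
  have : f.fiberι y z ∈ Set.range (f.fiberι y) := ⟨z, rfl⟩
  rw [Scheme.Hom.range_fiberι] at this
  exact this

theorem specializes_fiberι (f : X ⟶ Y) (y : Y) (z w : f.fiber y) :
    f.fiberι y z ⤳ f.fiberι y w ↔ w ∈ closure {z} := by
  rw [← specializes_iff_mem_closure, (f.fiberι y).isEmbedding.isInducing.specializes_iff]

/-- Maximal points of the fibre through `x`, seen in the fibre or in `X`. -/
theorem forall_fiber_iff {f : X ⟶ Y} {x : X} {P : X → Prop} :
    (∀ z : ↥(f.fiber (f x)), f.asFiber x ∈ closure {z} →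
      (∀ z' : ↥(f.fiber (f x)), z ∈ closure {z'} → z' = z) → P (f.fiberι (f x) z)) ↔
    ∀ z : X, z ⤳ x → f z = f x → (∀ z' : X, z' ⤳ z → f z' = f z → z' = z) → P z := by
  constructor
  · intro H z hzx hfz hmax
    have h1 : z ∈ Set.range (f.fiberι (f x)) := by
      rw [Scheme.Hom.range_fiberι]
      exact hfz
    obtain ⟨z, rfl⟩ := h1
    refine H z ?_ fun z' hz' ↦ ?_
    · rw [← specializes_fiberι, Scheme.Hom.fiberι_asFiber]
      exact hzx
    · apply (f.fiberι (f x)).isEmbedding.injective
      refine hmax _ ((specializes_fiberι _ _ _ _).mpr hz') ?_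
      rw [apply_fiberι, apply_fiberι]
  · intro H z hzx hmax
    refine H _ ?_ (apply_fiberι _ _ _) fun z' hz' hfz' ↦ ?_
    · have := (specializes_fiberι f (f x) z (f.asFiber x)).mpr hzx
      rwa [Scheme.Hom.fiberι_asFiber] at this
    · rw [apply_fiberι] at hfz'
      have h1 : z' ∈ Set.range (f.fiberι (f x)) := by
        rw [Scheme.Hom.range_fiberι]
        exact hfz'
      obtain ⟨z', rfl⟩ := h1
      rw [hmax z' ((specializes_fiberι _ _ _ _).mp hz')]

theorem surjective_nilradical_subschemeι (S : Scheme.{u}) : Surjective S.nilradical.subschemeι := by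
  rw [surjective_iff, ← Set.range_eq_univ, Scheme.IdealSheafData.range_subschemeι,
    Scheme.support_nilradical]
  rfl

/-- Specializations along a surjective closed immersion. -/
theorem specializes_iff (p : X ⟶ Y) [IsClosedImmersion p] (z w : X) : p z ⤳ p w ↔ z ⤳ w :=
  p.isEmbedding.isInducing.specializes_iff

section

variable [IsLocallyNoetherian Y] (f : X ⟶ Y) [LocallyOfFiniteType f] (x : X)
  (hopen : ∀ z : ↥(f.fiber (f.base x)), f.asFiber x ∈ closure {z} →
    (∀ z' : ↥(f.fiber (f.base x)), z ∈ closure {z'} → z' = z) →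
    EGA43.IsUnivOpenAt f ((f.fiberι (f.base x)).base z))
  (hred : FBase.IsGeomReducedAt (k := Y.residueField (f.base x)) (f.fiberToSpecResidueField (f.base x))
    (f.asFiber x))

omit [IsLocallyNoetherian Y] [LocallyOfFiniteType f] in
theorem isoClosed_isReduced : Ega43.GeomAt.IsoClosed.{u} (fun R _ => _root_.IsReduced R) :=
  fun R S _ _ e h ↦ by
    have : _root_.IsReduced R := h
    exact isReduced_of_injective e.symm e.symm.injective

omit [IsLocallyNoetherian Y] [LocallyOfFiniteType f] in
include hred in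
theorem isGeomReducedAt_of_isPullback {X' Y' : Scheme.{u}} {p : X' ⟶ X} {f' : X' ⟶ Y'} {g : Y' ⟶ Y}
    (sq : IsPullback p f' f g) (x' : X') (hx' : p x' = x) :
    FBase.IsGeomReducedAt (k := Y'.residueField (f'.base x')) (f'.fiberToSpecResidueField (f'.base x'))
      (f'.asFiber x') := by
  subst hx'
  exact (Ega43.GeomAt.geomAt_fiber_iff isoClosed_isReduced f' x').mpr
      (Ega43.GeomBC.geomAt_of_isPullback sq x'
        ((Ega43.GeomAt.geomAt_fiber_iff isoClosed_isReduced f (p x')).mp hred))

omit [IsLocallyNoetherian Y] in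
/-- The fibre is reduced at `x`: the ideal `𝔪_{f x} O_{X,x}` is radical. -/
theorem isRadical_map_stalkMap (f : X ⟶ Y) (x : X)
    (hred : FBase.IsGeomReducedAt (k := Y.residueField (f.base x)) (f.fiberToSpecResidueField (f.base x))
      (f.asFiber x)) :
    ((IsLocalRing.maximalIdeal (Y.presheaf.stalk (f x))).map (f.stalkMap x).hom).IsRadical := by
  let _ : Algebra (Y.presheaf.stalk (f x)) (X.presheaf.stalk x) := (f.stalkMap x).hom.toAlgebra
  have halg : CommRingCat.ofHom (algebraMap (Y.presheaf.stalk (f x)) (X.presheaf.stalk x)) =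
    f.stalkMap x := rfl
  exact Ega43.LocalFlat.isRadical_map
    (Ega43.GeomFibreStalk.isReduced_of_isGeomReducedAt f x hred halg)

include hopen hred in
theorem flat_of_isPullback {X' Y' : Scheme.{u}} {p : X' ⟶ X} {f' : X' ⟶ Y'} {g : Y' ⟶ Y}
    (sq : IsPullback p f' f g) [IsClosedImmersion g] [Surjective g] [IsReduced Y'] (x' : X')
    (hx' : p x' = x) : (f'.stalkMap x').hom.Flat := by
  have hred' := isGeomReducedAt_of_isPullback f x hred sq x' hx'
  subst hx'
  have : IsLocallyNoetherian Y' := LocallyOfFiniteType.isLocallyNoetherian g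
  have : LocallyOfFiniteType f' := MorphismProperty.of_isPullback sq inferInstance
  have : IsClosedImmersion p := MorphismProperty.of_isPullback sq.flip inferInstance
  have : Surjective p := MorphismProperty.of_isPullback sq.flip inferInstance
  have hcomm : ∀ z, f (p z) = g (f' z) := fun z ↦ by
    rw [← Scheme.Hom.comp_apply, sq.w, Scheme.Hom.comp_apply]
  refine Ega43.UnivOpenFlatGeom.flat_stalkMap f' x' ?_ hred' inferInstance
  rw [forall_fiber_iff (P := fun z ↦ EGA43.IsUnivOpenAt f' z)]
  have hopen' := (forall_fiber_iff (f := f) (x := p x') (P := fun z ↦ EGA43.IsUnivOpenAt f z)).mp hopen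
  intro z hz hfz hmax
  refine Ega43.UnivOpenAt.isUnivOpenAt_of_isPullback (hopen' (p z) (hz.map p.continuous) ?_ ?_) sq z rfl
  · rw [hcomm, hcomm, hfz]
  · intro w hw hfw
    obtain ⟨w, rfl⟩ := p.surjective w
    rw [hcomm, hcomm] at hfw
    rw [hmax w ((specializes_iff p _ _).mp hw) (g.isEmbedding.injective hfw)]

include hopen hred in
theorem key {ζ : X} (h : ζ ⤳ x) (hζ : ∀ z : X, z ⤳ ζ → z = ζ) :
    (∀ y : Y, y ⤳ f ζ → y = f ζ) ∧ ∃ z : X, ζ ⤳ z ∧ z ⤳ x ∧ f z = f x ∧
      (∀ z' : X, z' ⤳ z → f z' = f z → z' = z) ∧ rtd f z ≤ rtd f ζ := by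
  let g := Y.nilradical.subschemeι
  have hg : Surjective g := surjective_nilradical_subschemeι Y
  have hY' : IsReduced Y.nilradical.subscheme := Flat2C.GenericReduced.isReduced_subscheme_nilradical Y
  have : IsLocallyNoetherian Y.nilradical.subscheme := LocallyOfFiniteType.isLocallyNoetherian g
  let p := pullback.fst f g
  let f' := pullback.snd f g
  have sq : IsPullback p f' f g := IsPullback.of_hasPullback f g
  have hcomm : ∀ z, f (p z) = g (f' z) := fun z ↦ by
    rw [← Scheme.Hom.comp_apply, sq.w, Scheme.Hom.comp_apply]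
  have hrtd : ∀ z, rtd f (p z) = rtd f' z := fun z ↦ by
    have h1 := rtd_comp p f z
    have h2 := rtd_comp f' g z
    rw [rtd_eq_zero_of_isPreimmersion p, add_zero] at h1
    rw [rtd_eq_zero_of_isPreimmersion g, zero_add] at h2
    rw [← h1, ← h2, sq.w]
  obtain ⟨x', hx'⟩ := p.surjective x
  obtain ⟨ζ', rfl⟩ := p.surjective ζ
  have hflat := flat_of_isPullback f x hopen hred sq x' hx'
  have hred' := isGeomReducedAt_of_isPullback f x hred sq x' hx'
  subst hx'
  have h' : ζ' ⤳ x' := (specializes_iff p _ _).mp h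
  have hζ' : ∀ z, z ⤳ ζ' → z = ζ' := fun z hz ↦
    p.isEmbedding.injective (hζ _ (hz.map p.continuous))
  constructor
  · intro y hy
    obtain ⟨y', rfl⟩ := g.surjective y
    rw [hcomm] at hy ⊢
    rw [FlatPoint.apply_maximal_of_flat f' h' hζ' hflat y' ((specializes_iff g _ _).mp hy)]
  · obtain ⟨z, h1, h2, h3, h4⟩ := FlatFib.exists_fibre_point f' h' hζ' hflat
      (isRadical_map_stalkMap f' x' hred')
    refine ⟨p z, h1.map p.continuous, h2.map p.continuous, by rw [hcomm, hcomm, h3], ?_, ?_⟩
    · intro w hw hfw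
      obtain ⟨w, rfl⟩ := p.surjective w
      rw [hcomm, hcomm] at hfw
      rw [h4 w ((specializes_iff p _ _).mp hw) (g.isEmbedding.injective hfw)]
    · rw [hrtd, hrtd]
      exact FlatPoint.rtd_le_rtd_of_flat f' h1 hζ' (Sga3C.FlatAt.flatAt_of_specializes f' h2 hflat)

end

end Groth.Agent.Ega4fib.H130.RedBase
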